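import Mathlib

/-!
# The alternating groups of degree four and five
-/

set_option autoImplicit false

namespace Cfsg.Agent.Solv.EqualOrder

open scoped commutatorElement

theorem alt_five_nonsolvable : ¬ Group.IsSolvable (alternatingGroup (Fin 5)) := fun h => by
  haveI := h
  have hc := (IsSimpleGroup.comm_iff_isSolvable (G := alternatingGroup (Fin 5))).2 h
  have : ∃ x y : alternatingGroup (Fin 5), x * y ≠ y * x := by decide +kernel
  obtain ⟨x, y, hxy⟩ := this
  exact hxy (hc x y)

theorem alt_four_solvable : Group.IsSolvable (alternatingGroup (Fin 4)) := by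
  haveI : Fact (Nat.Prime 2) := ⟨Nat.prime_two⟩
  refine ⟨⟨2, ?_⟩⟩
  rw [derivedSeries_succ, derivedSeries_succ, derivedSeries_zero, Subgroup.commutator_eq_bot_iff_le_centralizer]
  have key : ∀ z ∈ ⁅(⊤ : Subgroup (alternatingGroup (Fin 4))), (⊤ : Subgroup (alternatingGroup (Fin 4)))⁆,
      z * z = 1 ∧ ∀ w : alternatingGroup (Fin 4), w * w = 1 → z * w = w * z := by
    have h2 : ∀ a b : alternatingGroup (Fin 4), ⁅a, b⁆ * ⁅a, b⁆ = 1 := by decide +kernel
    have hk : ∀ u v : alternatingGroup (Fin 4), u * u = 1 → v * v = 1 → u * v = v * u ∧ (u * v) * (u * v) = 1 := by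
      decide +kernel
    intro z hz
    rw [Subgroup.commutator_def] at hz
    have hzz : z * z = 1 := by
      induction hz using Subgroup.closure_induction with
      | mem y hy =>
        obtain ⟨c, -, d, -, rfl⟩ := hy
        exact h2 c d
      | one => rw [one_mul]
      | mul x y _ _ hx hy => exact (hk x y hx hy).2
      | inv x _ hx => rw [← mul_inv_rev, hx, inv_one]
    exact ⟨hzz, fun w hw => (hk z w hzz hw).1⟩
  exact fun x hx => Subgroup.mem_centralizer_iff.2 fun y hy => ((key x hx).2 y (key y hy).1).symm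

theorem alt_four_centralizer : ∀ x s : alternatingGroup (Fin 4), x ^ 3 = 1 → s * s = 1 → s ≠ 1 →
    s * x = x * s → x = 1 := by
  decide +kernel

theorem alt_five_not_comm : ¬ ∀ x y : alternatingGroup (Fin 5), x * y = y * x := fun h =>
  alt_five_nonsolvable (IsSimpleGroup.comm_iff_isSolvable.1 h)

end Cfsg.Agent.Solv.EqualOrder
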