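import Mathlib
import Cfsg.Prelude.Def_Transfer
import Cfsg.Agent.Lib.Solv.Zipper
import Cfsg.Agent.Lib.JComp.SymFour

/-!
# Groups in which subgroups of equal order are conjugate: first consequences
-/

set_option autoImplicit false
set_option linter.style.haveILetI false
set_option linter.unusedSectionVars false

open scoped Pointwise

namespace Cfsg.Agent.Solv.EqualOrder

universe u

/-- Subgroups of equal order are conjugate. -/
def AllConj (G : Type u) [Group G] : Prop :=
  ∀ H K : Subgroup G, Nat.card H = Nat.card K → ∃ g : G, K = H.map (MulAut.conj g).toMonoidHom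

variable {G : Type u} [Group G] [Finite G]

theorem AllConj.quotient (hC : AllConj G) (N : Subgroup G) [N.Normal] : AllConj (G ⧸ N) := by
  intro A B hAB
  set π := QuotientGroup.mk' N
  have hcard : ∀ X : Subgroup (G ⧸ N), Nat.card (X.comap π) = Nat.card N * Nat.card X := fun X => by
    refine (Nat.eq_of_mul_eq_mul_right (Nat.pos_of_ne_zero (Subgroup.index_ne_zero_of_finite (H := X))) ?_)
    rw [mul_assoc, Subgroup.card_mul_index X, mul_comm (Nat.card N),
      ← Subgroup.card_eq_card_quotient_mul_card_subgroup,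
      ← Subgroup.index_comap_of_surjective X (QuotientGroup.mk'_surjective N)]
    exact Subgroup.card_mul_index _
  obtain ⟨g, hg⟩ := hC (A.comap π) (B.comap π) (by rw [hcard, hcard, hAB])
  refine ⟨π g, ?_⟩
  rw [← Subgroup.map_comap_eq_self_of_surjective (QuotientGroup.mk'_surjective N) B, hg,
    Subgroup.map_map]
  conv_rhs => rw [← Subgroup.map_comap_eq_self_of_surjective (QuotientGroup.mk'_surjective N) A,
    Subgroup.map_map]
  rfl

theorem AllConj.prime (hC : AllConj G) : ∀ p : ℕ, p.Prime → ∀ H K : Subgroup G, IsPGroup p H → IsPGroup p K →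
    Nat.card H = Nat.card K → ∃ g : G, K = H.map (MulAut.conj g).toMonoidHom :=
  fun _ _ H K _ _ h => hC H K h

/-- No element is inverted by an involution and centralized by another one which commutes with the
first. -/
theorem eq_one_of_inverted (hC : AllConj G) {t s x : G} (ht : orderOf t = 2) (hs : orderOf s = 2)
    (hts : Commute t s) (htx : Commute t x) (hx : Odd (orderOf x)) (hinv : s * x * s⁻¹ = x⁻¹) : x = 1 := by
  by_contra hx1
  have hco : (orderOf t).Coprime (orderOf x) := by rw [ht]; exact Nat.coprime_two_left.2 hx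
  have hA : Nat.card (Subgroup.zpowers (t * x)) = 2 * orderOf x := by
    rw [Nat.card_zpowers, htx.orderOf_mul_eq_mul_orderOf_of_coprime hco, ht]
  have hn : Subgroup.zpowers s ≤ Subgroup.normalizer (Subgroup.zpowers x : Set G) := by
    rw [Subgroup.zpowers_le]
    refine mem_normalizer_of_conj_smul ?_
    rw [conj_smul_eq_map, MonoidHom.map_zpowers]
    show Subgroup.zpowers (s * x * s⁻¹) = _
    rw [hinv, Subgroup.zpowers_inv]
  have hd : Subgroup.zpowers x ⊓ Subgroup.zpowers s = ⊥ := Subgroup.inf_eq_bot_of_coprime (by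
    rw [Nat.card_zpowers, Nat.card_zpowers, hs]; exact Nat.coprime_two_right.2 hx)
  have hB : Nat.card ↥(Subgroup.zpowers x ⊔ Subgroup.zpowers s) = 2 * orderOf x := by
    rw [JComp.card_sup_disjoint hn hd, Nat.card_zpowers, Nat.card_zpowers, hs, mul_comm]
  obtain ⟨g, hg⟩ := hC (Subgroup.zpowers (t * x)) (Subgroup.zpowers x ⊔ Subgroup.zpowers s) (hA.trans hB.symm)
  rw [MonoidHom.map_zpowers] at hg
  have hxm : x ∈ Subgroup.zpowers ((MulAut.conj g).toMonoidHom (t * x)) :=
    hg ▸ Subgroup.mem_sup_left (Subgroup.mem_zpowers x)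
  have hsm : s ∈ Subgroup.zpowers ((MulAut.conj g).toMonoidHom (t * x)) :=
    hg ▸ Subgroup.mem_sup_right (Subgroup.mem_zpowers s)
  obtain ⟨i, hi⟩ := Subgroup.mem_zpowers_iff.1 hxm
  obtain ⟨j, hj⟩ := Subgroup.mem_zpowers_iff.1 hsm
  have hxs : s * x = x * s := by rw [← hi, ← hj, ← zpow_add, ← zpow_add, add_comm]
  rw [hxs, mul_inv_cancel_right] at hinv
  have h2 : x ^ 2 = 1 := by rw [pow_two]; nth_rewrite 2 [hinv]; exact mul_inv_cancel x
  rcases (Nat.dvd_prime Nat.prime_two).1 (orderOf_dvd_of_pow_eq_one h2) with h | h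
  · exact hx1 (orderOf_eq_one_iff.1 h)
  · rw [h] at hx; exact absurd hx (by decide)

/-- With no elements of order four, the Sylow two-subgroup of the centralizer of an involution is normal. -/
theorem mem_core_centralizer (hC : AllConj G) {t : G} (ht : orderOf t = 2)
    {s : Subgroup.centralizer ({t} : Set G)} (hs : orderOf s = 2) :
    s ∈ Cfsg.pCore 2 (Subgroup.centralizer ({t} : Set G)) := by
  by_contra h
  obtain ⟨x, hx1, hxo, hinv⟩ := Solv.exists_odd_inverted hs h
  refine hx1 (Subtype.ext (eq_one_of_inverted hC (x := (x : G)) (s := (s : G)) ht ?_ ?_ ?_ ?_ ?_))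
  · rw [Subgroup.orderOf_coe, hs]
  · exact (Subgroup.mem_centralizer_singleton_iff.1 s.2).symm
  · exact (Subgroup.mem_centralizer_singleton_iff.1 x.2).symm
  · rwa [Subgroup.orderOf_coe]
  · exact congrArg Subtype.val hinv

/-- The Sylow two-subgroups are elementary abelian: every element of two-power order has square one. -/
def NoFour (G : Type u) [Group G] : Prop := ∀ g : G, ∀ k : ℕ, g ^ 2 ^ k = 1 → g ^ 2 = 1

theorem sylow_le_core_centralizer (hC : AllConj G) (h4 : NoFour G) {t : G} (ht : orderOf t = 2)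
    (S : Sylow 2 (Subgroup.centralizer ({t} : Set G))) :
    (S : Subgroup (Subgroup.centralizer ({t} : Set G))) ≤ Cfsg.pCore 2 (Subgroup.centralizer ({t} : Set G)) := by
  haveI : Fact (Nat.Prime 2) := ⟨Nat.prime_two⟩
  intro s hs
  rcases eq_or_ne s 1 with rfl | h1
  · exact one_mem _
  refine mem_core_centralizer hC ht (orderOf_eq_prime ?_ h1)
  obtain ⟨k, hk⟩ := S.2 ⟨s, hs⟩
  refine Subtype.ext (h4 (s : G) k ?_)
  exact congrArg Subtype.val (congrArg Subtype.val hk)

end Cfsg.Agent.Solv.EqualOrder
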