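import Mathlib
import Cfsg.Prelude.Def_Perm
import Cfsg.Agent.Lib.Small.PSL2
import Cfsg.Agent.Lib.Classical.Dickson.Tools
import Cfsg.Agent.Lib.Solv.OddGated.SpecThree.TwoRCase
import Cfsg.Agent.Lib.Solv.EqualOrderAffine

/-!
# Orders of semiaffine groups and of the automorphism group of `PSL(2, 2^f)`
-/

set_option autoImplicit false
set_option linter.style.haveILetI false
set_option linter.unusedSectionVars false

namespace Cfsg.Agent.Solv.EqualOrder

open Cfsg.Agent.Small

universe u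

/-- The order of a semiaffine group. -/
theorem card_semiaffine {R : Type u} [Ring R] [Finite R] :
    Nat.card (Cfsg.semiaffineGroup R) = Nat.card Rˣ * Nat.card R * Nat.card (R ≃+* R) := by
  haveI : Finite (R ≃+* R) := Finite.of_injective (fun f => (f : R → R)) DFunLike.coe_injective
  let f : Rˣ × R × (R ≃+* R) → Cfsg.semiaffineGroup R := fun q =>
    ⟨(q.2.2.toEquiv.trans (Units.mulLeft q.1)).trans (Equiv.addRight q.2.1),
      q.1, q.2.1, q.2.2, fun x => rfl⟩
  have hfa : ∀ (q : Rˣ × R × (R ≃+* R)) (x : R), (f q : Equiv.Perm R) x = (q.1 : R) * q.2.2 x + q.2.1 :=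
    fun q x => rfl
  have hf : Function.Bijective f := by
    refine ⟨fun q q' h => ?_, ?_⟩
    · have h' : ∀ x, (q.1 : R) * q.2.2 x + q.2.1 = (q'.1 : R) * q'.2.2 x + q'.2.1 := fun x => by
        rw [← hfa, ← hfa, h]
      have h0 := h' 0
      rw [map_zero, map_zero, mul_zero, mul_zero, zero_add, zero_add] at h0
      have h1 := h' 1
      rw [map_one, map_one, mul_one, mul_one, h0, add_left_inj] at h1
      have hu : q.1 = q'.1 := Units.ext h1
      refine Prod.ext hu (Prod.ext h0 (RingEquiv.ext fun x => ?_))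
      have hx := h' x
      rw [h0, add_left_inj, hu] at hx
      exact (Units.mul_right_inj _).1 hx
    · rintro ⟨σ, a, b, φ, h⟩
      exact ⟨(a, b, φ), Subtype.ext (Equiv.ext fun x => (h x).symm)⟩
  rw [← Nat.card_congr (Equiv.ofBijective f hf), Nat.card_prod, Nat.card_prod, mul_assoc]

variable {F : Type} [Field F] [Fintype F]

local notation "P2" => Matrix.ProjectiveSpecialLinearGroup (Fin 2) F

theorem card_psl_two {f : ℕ} (hf : 0 < f) (hF : Fintype.card F = 2 ^ f) :
    Nat.card P2 = 2 ^ f * ((2 ^ f) ^ 2 - 1) := by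
  have h1 := Classical.Dickson.card_P2 (F := F)
  have hg : Nat.gcd 2 (2 ^ f - 1) = 1 := by
    obtain ⟨k, rfl⟩ : ∃ k, f = k + 1 := ⟨f - 1, by omega⟩
    have := Nat.one_le_two_pow (n := k)
    refine Nat.coprime_two_left.2 ⟨2 ^ k - 1, ?_⟩
    rw [pow_succ]; omega
  rwa [hF, hg, mul_one] at h1

theorem charP_two {f : ℕ} (hf : 0 < f) (hF : Fintype.card F = 2 ^ f) : CharP F 2 := by
  obtain ⟨p, hp⟩ := CharP.exists F
  haveI := hp
  obtain ⟨m, hpp, hm⟩ := FiniteField.card F p
  obtain rfl : p = 2 := (Nat.prime_dvd_prime_iff_eq hpp Nat.prime_two).1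
    (hpp.dvd_of_dvd_pow (by rw [← hF, hm]; exact dvd_pow_self p m.pos.ne'))
  exact hp

/-- The field automorphisms. -/
theorem card_ringEquiv {f : ℕ} (hf : 0 < f) (hF : Fintype.card F = 2 ^ f) : Nat.card (F ≃+* F) = f := by
  haveI : Fact (Nat.Prime 2) := ⟨Nat.prime_two⟩
  haveI := charP_two hf hF
  letI : Algebra (ZMod 2) F := ZMod.algebra F 2
  let e : F ≃ₐ[ZMod 2] GaloisField 2 f :=
    GaloisField.algEquivGaloisField 2 f (by rw [Nat.card_eq_fintype_card]; exact hF)
  rw [← Solv.PlaneTransitive.card_aut (p := 2) f hf.ne']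
  exact Nat.card_congr
    { toFun := fun σ => e.toRingEquiv.symm.trans (σ.trans e.toRingEquiv)
      invFun := fun σ => e.toRingEquiv.trans (σ.trans e.toRingEquiv.symm)
      left_inv := fun σ => RingEquiv.ext fun x => by simp
      right_inv := fun σ => RingEquiv.ext fun x => by simp }

theorem finite_P2 : Finite P2 := Finite.of_surjective _ PSL2.pr_surjective

/-- The automorphism group. -/
theorem card_mulAut_le {f : ℕ} (hf : 0 < f) (hF : Fintype.card F = 2 ^ f) :
    Nat.card (MulAut P2) ≤ Nat.card P2 * f := by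
  haveI : Fact (Nat.Prime 2) := ⟨Nat.prime_two⟩
  haveI := charP_two hf hF
  haveI := finite_P2 (F := F)
  have hchar : ringChar F = 2 := ringChar.eq F 2
  haveI : Finite (F ≃+* F) := Finite.of_injective (fun σ => (σ : F → F)) DFunLike.coe_injective
  refine (Nat.card_le_card_of_surjective
    (fun z : P2 × (F ≃+* F) => MulAut.conj z.1 * PSL2.fieldP z.2) ?_).trans ?_
  · intro α
    obtain ⟨g, σ, rfl⟩ := PSL2.aut_eq (p := 2) (f := f) hF α
    obtain ⟨y, hy⟩ := Cfsg.Agent.Solv.SpecThree.conjP_inner g (FiniteField.isSquare_of_char_two hchar _)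
    exact ⟨(y, σ), by rw [hy]⟩
  · rw [Nat.card_prod, card_ringEquiv hf hF]

/-- An outer automorphism of order three of `PSL(2,8)`. -/
theorem exists_outer_three (hF : Fintype.card F = 2 ^ 3) :
    ∃ α : MulAut P2, orderOf α = 3 ∧ α ∉ (MulAut.conj : P2 →* MulAut P2).range := by
  haveI : Finite (F ≃+* F) := Finite.of_injective (fun σ => (σ : F → F)) DFunLike.coe_injective
  haveI : Fact (Nat.Prime 3) := ⟨Nat.prime_three⟩
  obtain ⟨σ, hσ⟩ := exists_prime_orderOf_dvd_card' (G := F ≃+* F) 3 (by rw [card_ringEquiv (by norm_num) hF])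
  have hne : PSL2.fieldP σ ∉ (MulAut.conj : P2 →* MulAut P2).range := by
    rintro ⟨x, hx⟩
    obtain ⟨A, rfl⟩ := PSL2.pr_surjective x
    rw [← PSL2.conjP_toGL] at hx
    have h : PSL2.conjP (Matrix.SpecialLinearGroup.toGL A) * PSL2.fieldP (1 : F ≃+* F) =
        PSL2.conjP 1 * PSL2.fieldP σ := by rw [map_one, map_one, mul_one, one_mul, hx]
    have h' := PSL2.field_unique h
    rw [← h', orderOf_one] at hσ
    omega
  refine ⟨PSL2.fieldP σ, orderOf_eq_prime ?_ fun h => hne (h ▸ one_mem _), hne⟩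
  rw [← map_pow, ← hσ, pow_orderOf_eq_one, map_one]

end Cfsg.Agent.Solv.EqualOrder
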