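import Mathlib
import Cfsg.Agent.Lib.Solv.EqualOrder.Basic
import Cfsg.Agent.Lib.Solv.EqualOrder.Tools
import Cfsg.Agent.Lib.Bender.AbelianReduce
import Cfsg.Agent.S0205

/-!
# Equal order subgroups: the elementary abelian case with a solvable group
-/

set_option autoImplicit false
set_option linter.style.haveILetI false
set_option linter.unusedSectionVars false

open scoped Pointwise

namespace Cfsg.Agent.Solv.EqualOrder

open Cfsg Cfsg.Agent

universe u v

variable {Q : Type u} [Group Q] [Finite Q]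

theorem AllConj.equiv {R : Type v} [Group R] (hC : AllConj Q) (e : Q ≃* R) : AllConj R := by
  intro H K hHK
  have hc : ∀ X : Subgroup R, Nat.card (X.map e.symm.toMonoidHom) = Nat.card X := fun X =>
    (Nat.card_congr (X.equivMapOfInjective e.symm.toMonoidHom e.symm.injective).toEquiv).symm
  obtain ⟨g, hg⟩ := hC (H.map e.symm.toMonoidHom) (K.map e.symm.toMonoidHom) (by rw [hc, hc, hHK])
  refine ⟨e g, ?_⟩
  have h := congrArg (Subgroup.map e.toMonoidHom) hg
  have he : ∀ X : Subgroup R, (X.map e.symm.toMonoidHom).map e.toMonoidHom = X := fun X => by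
    rw [Subgroup.map_map]
    convert Subgroup.map_id X
    exact MonoidHom.ext fun x => e.apply_symm_apply x
  rw [he, Subgroup.map_map, Subgroup.map_map] at h
  rw [h]
  congr 1
  exact MonoidHom.ext fun x => by simp

theorem noFour_of_elementary (P : Sylow 2 Q) (hel : Cfsg.IsElementaryAbelian 2 (P : Subgroup Q)) :
    NoFour Q := by
  haveI : Fact (Nat.Prime 2) := ⟨Nat.prime_two⟩
  intro g k hg
  obtain ⟨S, hS⟩ := (IsPGroup.of_card (p := 2) (G := Subgroup.zpowers g)
    (Nat.card_zpowers g ▸ (Nat.dvd_prime_pow Nat.prime_two).1 (orderOf_dvd_of_pow_eq_one hg)).choose_spec.2).exists_le_sylow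
  obtain ⟨c, rfl⟩ := MulAction.exists_smul_eq Q P S
  have h1 : c⁻¹ * g * c ∈ (P : Subgroup Q) := by
    have h := hS (Subgroup.mem_zpowers g)
    rw [Sylow.coe_subgroup_smul] at h
    exact Fusion.mem_cj.1 h
  have h2 := hel.2 _ h1
  rw [show (c⁻¹ * g * c) ^ 2 = c⁻¹ * g ^ 2 * c by rw [pow_two, pow_two]; group] at h2
  rw [← mul_left_cancel_iff (a := c⁻¹), mul_one, ← mul_right_cancel_iff (a := c), h2, inv_mul_cancel]

theorem invol_conj (hC : AllConj Q) {a b : Q} (ha : orderOf a = 2) (hb : orderOf b = 2) :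
    ∃ g : Q, g * a * g⁻¹ = b := by
  obtain ⟨g, hg⟩ := hC (Subgroup.zpowers a) (Subgroup.zpowers b) (by rw [Nat.card_zpowers, Nat.card_zpowers, ha, hb])
  refine ⟨g, ?_⟩
  rw [MonoidHom.map_zpowers] at hg
  have hm : g * a * g⁻¹ ∈ Subgroup.zpowers b := hg ▸ Subgroup.mem_zpowers _
  obtain ⟨i, hi⟩ := Subgroup.mem_zpowers_iff.1 hm
  have hbb : b * b = 1 := by rw [← pow_two, ← hb, pow_orderOf_eq_one]
  rcases Int.even_or_odd i with ⟨j, rfl⟩ | ⟨j, rfl⟩
  · rw [← two_mul, zpow_mul, zpow_two, hbb, one_zpow] at hi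
    have h1 : a = 1 := by rw [show a = g⁻¹ * (g * a * g⁻¹) * g by group, ← hi]; group
    rw [h1, orderOf_one] at ha
    omega
  · rw [zpow_add, zpow_mul, zpow_two, hbb, one_zpow, one_mul, zpow_one] at hi
    exact hi.symm

theorem orderOf_elementary {P : Subgroup Q} (hel : Cfsg.IsElementaryAbelian 2 P) {a : Q} (ha : a ∈ P)
    (h1 : a ≠ 1) : orderOf a = 2 := by
  haveI : Fact (Nat.Prime 2) := ⟨Nat.prime_two⟩
  exact orderOf_eq_prime (hel.2 a ha) h1

/-- A normal subgroup with an involution contains the elementary Sylow subgroup. -/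
theorem sylow_le_of_invol (hC : AllConj Q) (P : Sylow 2 Q) (hel : Cfsg.IsElementaryAbelian 2 (P : Subgroup Q))
    (N : Subgroup Q) [N.Normal] {t : Q} (htN : t ∈ N) (ht : orderOf t = 2) : (P : Subgroup Q) ≤ N := by
  intro a ha
  rcases eq_or_ne a 1 with rfl | h1
  · exact one_mem _
  obtain ⟨g, rfl⟩ := invol_conj hC ht (orderOf_elementary hel ha h1)
  exact ‹N.Normal›.conj_mem t htN g

theorem exists_invol (hO : Cfsg.oddCore Q = ⊥) (N : Subgroup Q) [N.Normal] (hne : N ≠ ⊥) :
    ∃ t ∈ N, orderOf t = 2 := by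
  haveI : Fact (Nat.Prime 2) := ⟨Nat.prime_two⟩
  have he : 2 ∣ Nat.card N := by
    refine even_iff_two_dvd.1 (Nat.not_odd_iff_even.1 fun h => hne ?_)
    have h' := Fusion.le_pPrimeCore (p := 2) (N := N) (Nat.coprime_two_right.2 h)
    rw [show pPrimeCore 2 Q = Cfsg.oddCore Q from rfl, hO] at h'
    exact eq_bot_iff.2 h'
  obtain ⟨⟨t, ht⟩, h⟩ := exists_prime_orderOf_dvd_card' 2 he
  exact ⟨t, ht, by rw [← h, Subgroup.orderOf_mk]⟩

theorem odd_quotient_solvable {R : Type v} [Group R] [Finite R] (S : Sylow 2 R) (V : Subgroup R) [V.Normal]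
    (hSV : (S : Subgroup R) ≤ V) (hV : Group.IsSolvable V) : Group.IsSolvable R := by
  haveI : Fact (Nat.Prime 2) := ⟨Nat.prime_two⟩
  haveI := hV
  haveI : Group.IsSolvable (R ⧸ V) := S0205.result (by
    rw [← Subgroup.index_eq_card]
    exact Nat.not_even_iff_odd.1 fun h => S.not_dvd_index
      ((even_iff_two_dvd.1 h).trans (Subgroup.index_dvd_of_le hSV)))
  exact Group.isSolvable_of_ker_le_range V.subtype (QuotientGroup.mk' V) (by simp)

theorem centralizer_solvable (hC : AllConj Q) (h4 : NoFour Q) {t : Q} (ht : orderOf t = 2) :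
    Group.IsSolvable (Subgroup.centralizer ({t} : Set Q)) := by
  haveI : Fact (Nat.Prime 2) := ⟨Nat.prime_two⟩
  obtain ⟨S⟩ : Nonempty (Sylow 2 (Subgroup.centralizer ({t} : Set Q))) := inferInstance
  haveI := (Fusion.isPGroup_pCore 2 (Subgroup.centralizer ({t} : Set Q))).isNilpotent
  exact odd_quotient_solvable S _ (sylow_le_core_centralizer hC h4 ht S) inferInstance

theorem sylow_normal_of_solvable (hC : AllConj Q) (hO : Cfsg.oddCore Q = ⊥) (P : Sylow 2 Q)
    (hel : Cfsg.IsElementaryAbelian 2 (P : Subgroup Q)) (hsol : Group.IsSolvable Q) :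
    (P : Subgroup Q).Normal := by
  rcases subsingleton_or_nontrivial Q with h | h
  · exact ⟨fun n hn g => Subsingleton.elim n (g * n * g⁻¹) ▸ hn⟩
  haveI := hsol
  obtain ⟨V, hV, hVne, hmin⟩ := Solv.exists_minimal_normal (G := Q)
  haveI := hV
  obtain ⟨-, p, hp, -, hVp⟩ := Solv.minimal_normal_elementaryAbelian V inferInstance hVne hmin
  obtain ⟨t, htV, ht⟩ := exists_invol hO V hVne
  haveI := Fact.mk hp
  obtain ⟨k, hk⟩ := IsPGroup.iff_orderOf.1 hVp ⟨t, htV⟩
  rw [Subgroup.orderOf_mk, ht] at hk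
  have hk1 : k ≠ 0 := fun e => by rw [e, pow_zero] at hk; omega
  obtain rfl : p = 2 := (Nat.prime_dvd_prime_iff_eq hp Nat.prime_two).1 (hk ▸ dvd_pow_self p hk1)
  obtain ⟨S, hS⟩ := hVp.exists_le_sylow
  have hPV := sylow_le_of_invol hC P hel V htV ht
  rwa [show (P : Subgroup Q) = V from le_antisymm hPV fun v hv => by
    have h2 := P.3 hVp hPV
    rwa [h2] at hv]

/-- The elementary solvable case of rank at least three. -/
theorem solvable_large (hC : AllConj Q) (hO : Cfsg.oddCore Q = ⊥) (P : Sylow 2 Q)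
    (hel : Cfsg.IsElementaryAbelian 2 (P : Subgroup Q)) (hsol : Group.IsSolvable Q) {n : ℕ} (hn : 3 ≤ n)
    (hcard : Nat.card P = 2 ^ n) :
    Nonempty (Q ≃* Cfsg.affineGroup (GaloisField 2 3)) ∨
      Nonempty (Q ≃* Cfsg.semiaffineGroup (GaloisField 2 3)) ∨
      Nonempty (Q ≃* Cfsg.semiaffineGroup (GaloisField 2 5)) := by
  haveI : Fact (Nat.Prime 2) := ⟨Nat.prime_two⟩
  haveI := sylow_normal_of_solvable hC hO P hel hsol
  haveI := hsol
  have hN : (⊤ : Subgroup Q) = Subgroup.normalizer ((P : Subgroup Q) : Set Q) :=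
    (Subgroup.normalizer_eq_top _).symm
  have hcore : pPrimeCore 2 (⊤ : Subgroup Q) = ⊥ := by
    refine (Subgroup.map_eq_bot_iff_of_injective (f := (Subgroup.topEquiv (G := Q)).toMonoidHom) _
      (Subgroup.topEquiv (G := Q)).injective).1 ?_
    rw [Fusion.map_pPrimeCore_equiv]
    exact hO
  let e : (⊤ : Subgroup Q) ⧸ pPrimeCore 2 (⊤ : Subgroup Q) ≃* Q :=
    ((QuotientGroup.quotientMulEquivOfEq hcore).trans QuotientGroup.quotientBot).trans Subgroup.topEquiv
  rcases Solv.EqualOrderAffine.main (p := 2) (fun H K _ _ h => hC H K h) P n hn hel hcard ⊤ hN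
      inferInstance with ⟨-, -, h⟩ | ⟨rfl, -, ⟨f⟩⟩
  · rcases h rfl with ⟨⟨f⟩⟩ | ⟨⟨f⟩⟩
    · exact Or.inr (Or.inl ⟨e.symm.trans f⟩)
    · exact Or.inl ⟨e.symm.trans f⟩
  · exact Or.inr (Or.inr ⟨e.symm.trans f⟩)

/-- A group of order twelve with a self-centralizing normal four-group. -/
theorem iso_alt_four (h12 : Nat.card Q = 12) (hno : ∀ R : Subgroup Q, R.Normal → Nat.card R ≠ 3) :
    Nonempty (Q ≃* alternatingGroup (Fin 4)) := by
  haveI : Fact (Nat.Prime 3) := ⟨Nat.prime_three⟩
  obtain ⟨x, hx⟩ := exists_prime_orderOf_dvd_card' (G := Q) 3 (by rw [h12]; norm_num)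
  set R := Subgroup.zpowers x
  have hR : Nat.card R = 3 := by rw [Nat.card_zpowers, hx]
  have hidx : R.index = 4 := by
    have := R.card_mul_index
    rw [hR, h12] at this
    omega
  have hcore : R.normalCore = ⊥ := by
    rcases (Nat.dvd_prime Nat.prime_three).1 (hR ▸ Subgroup.card_dvd_of_le R.normalCore_le) with h | h
    · exact Subgroup.card_eq_one.1 h
    · exact absurd h (hno _ inferInstance)
  let q : Q ⧸ R ≃ Fin 4 := (Finite.equivFin _).trans (finCongr (by rw [← Subgroup.index_eq_card, hidx]))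
  let f : Q →* Equiv.Perm (Fin 4) := q.permCongrHom.toMonoidHom.comp (MulAction.toPermHom Q (Q ⧸ R))
  have hf : Function.Injective f := by
    refine q.permCongrHom.injective.comp ((MonoidHom.ker_eq_bot_iff _).1 ?_)
    rw [← hcore, Subgroup.normalCore_eq_ker]
  refine ⟨(MonoidHom.ofInjective hf).trans (MulEquiv.subgroupCongr
    (Equiv.Perm.eq_alternatingGroup_of_index_eq_two ?_))⟩
  have h := Subgroup.card_mul_index f.range
  rw [← Nat.card_congr (MonoidHom.ofInjective hf).toEquiv, h12, Nat.card_perm, Nat.card_eq_fintype_card,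
    Fintype.card_fin] at h
  norm_num [Nat.factorial] at h
  omega

/-- The elementary solvable case of rank two. -/
theorem solvable_four (hC : AllConj Q) (hO : Cfsg.oddCore Q = ⊥) (P : Sylow 2 Q)
    (hel : Cfsg.IsElementaryAbelian 2 (P : Subgroup Q)) (hsol : Group.IsSolvable Q)
    (hcard : Nat.card P = 4) : Nonempty (Q ≃* alternatingGroup (Fin 4)) := by
  classical
  haveI : Fact (Nat.Prime 2) := ⟨Nat.prime_two⟩
  haveI hPn := sylow_normal_of_solvable hC hO P hel hsol
  -- the Sylow subgroup is self-centralizing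
  set C := Subgroup.centralizer ((P : Subgroup Q) : Set Q) with hCdef
  haveI : C.Normal := Subgroup.normal_centralizer
  have hPC : (P : Subgroup Q) ≤ C := fun a ha => Subgroup.mem_centralizer_iff.2 fun b hb =>
    congrArg Subtype.val (hel.1.is_comm.comm ⟨b, hb⟩ ⟨a, ha⟩)
  have hCP : C = (P : Subgroup Q) := by
    let S : Sylow 2 C := P.subtype hPC
    have hn : Subgroup.normalizer ((S : Subgroup C) : Set C) ≤ Subgroup.centralizer ((S : Subgroup C) : Set C) :=
      fun c _ => Subgroup.mem_centralizer_iff.2 fun s hs => Subtype.ext (Subgroup.mem_centralizer_iff.1 c.2 _ hs)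
    obtain ⟨S', K, hK, hKc⟩ := Fusion.hnpc_of_normalizer_le_centralizer S hn
    have hKodd : Odd (Nat.card K) := by
      have := hKc.index_eq_card
      rw [← this]
      exact Nat.not_even_iff_odd.1 fun h => S'.not_dvd_index (even_iff_two_dvd.1 h)
    have hKtop : Nat.card C = Nat.card K * Nat.card S' := hKc.card_mul.symm
    have hbot : K.map C.subtype = ⊥ := by
      haveI := hK
      have h1 : K ≤ pPrimeCore 2 C := Fusion.le_pPrimeCore (Nat.coprime_two_right.2 hKodd)
      haveI : ((pPrimeCore 2 C).map C.subtype).Normal := ConjAct.normal_of_characteristic_of_normal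
      have h' := Fusion.le_pPrimeCore (p := 2) (N := (pPrimeCore 2 C).map C.subtype) (by
        rw [← Nat.card_congr ((pPrimeCore 2 C).equivMapOfInjective C.subtype C.subtype_injective).toEquiv]
        exact Fusion.card_pPrimeCore_coprime 2 C)
      rw [show pPrimeCore 2 Q = Cfsg.oddCore Q from rfl, hO] at h'
      exact eq_bot_iff.2 ((Subgroup.map_mono h1).trans h')
    rw [Subgroup.map_eq_bot_iff_of_injective _ C.subtype_injective] at hbot
    rw [hbot, Subgroup.card_bot, one_mul] at hKtop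
    refine (Subgroup.eq_of_le_of_card_ge hPC ?_).symm
    rw [hKtop, hcard]
    exact le_of_eq ((Sylow.card_eq_multiplicity S').trans (Sylow.card_eq_multiplicity S).symm |>.trans
      ((Nat.card_congr (Subgroup.subgroupOfEquivOfLe hPC).toEquiv).trans hcard))
  -- the action on the three involutions
  let φ : Q →* MulAut (P : Subgroup Q) := MulAut.conjNormal
  have hker : φ.ker = (P : Subgroup Q) := by
    refine Eq.trans ?_ hCP
    ext x
    rw [MonoidHom.mem_ker, Subgroup.mem_centralizer_iff]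
    constructor
    · intro h a ha
      have h1 := congrArg Subtype.val (DFunLike.congr_fun h (⟨a, ha⟩ : (P : Subgroup Q)))
      change x * a * x⁻¹ = a at h1
      exact (mul_inv_eq_iff_eq_mul.1 h1).symm
    · intro h
      refine MulEquiv.ext fun a => Subtype.ext ?_
      show x * (a : Q) * x⁻¹ = a
      rw [← h _ a.2, mul_inv_cancel_right]
  have hAut : Nat.card (MulAut (P : Subgroup Q)) ≤ 6 := by
    haveI : Nontrivial (P : Subgroup Q) := Finite.one_lt_card_iff_nontrivial.1 (by omega)
    haveI : IsKleinFour (P : Subgroup Q) := ⟨hcard, by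
      refine (Monoid.exponent_eq_prime_iff Nat.prime_two).2 fun a h1 => ?_
      rw [← Subgroup.orderOf_coe]
      exact orderOf_elementary hel a.2 fun h => h1 (Subtype.ext h)⟩
    haveI := Fintype.ofFinite (P : Subgroup Q)
    let r : MulAut (P : Subgroup Q) → Equiv.Perm {x : (P : Subgroup Q) // x ≠ 1} := fun α =>
      α.toEquiv.subtypeEquiv fun x => (map_ne_one_iff α α.injective).symm
    have hr : Function.Injective r := fun α β h => MulEquiv.ext fun x => by
      by_cases hx : x = 1
      · rw [hx, map_one, map_one]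
      · exact congrArg Subtype.val (Equiv.congr_fun h ⟨x, hx⟩)
    refine (Nat.card_le_card_of_injective r hr).trans (le_of_eq ?_)
    rw [Nat.card_perm, show Nat.card {x : (P : Subgroup Q) // x ≠ 1} = 3 from ?_]
    · rfl
    rw [Nat.card_eq_fintype_card, Fintype.card_subtype_compl, Fintype.card_subtype_eq, ← Nat.card_eq_fintype_card, hcard]
  have hidx : (P : Subgroup Q).index ≤ 6 := by
    rw [← hker, Subgroup.index_ker]
    exact (Nat.card_le_card_of_injective _ Subtype.val_injective).trans hAut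
  have hodd : ¬ 2 ∣ (P : Subgroup Q).index := P.not_dvd_index
  have h12 : Nat.card Q = 12 := by
    rw [← (P : Subgroup Q).card_mul_index, hcard]
    suffices h : 3 ∣ (P : Subgroup Q).index by
      have h0 := Subgroup.index_ne_zero_of_finite (H := (P : Subgroup Q))
      have : (P : Subgroup Q).index ≠ 6 := fun e => hodd (e ▸ by norm_num)
      omega
    -- two different involutions are conjugate
    obtain ⟨⟨a, ha⟩, ha1⟩ : ∃ a : (P : Subgroup Q), a ≠ 1 := by
      haveI : Nontrivial (P : Subgroup Q) := Finite.one_lt_card_iff_nontrivial.1 (by omega)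
      exact exists_ne 1
    have ha' : a ≠ 1 := fun h => ha1 (Subtype.ext h)
    let O := MulAction.orbit (ConjAct Q) a
    have hOP : O = {x : Q | x ∈ (P : Subgroup Q) ∧ x ≠ 1} := by
      ext x
      constructor
      · rintro ⟨g, rfl⟩
        show ConjAct.ofConjAct g * a * (ConjAct.ofConjAct g)⁻¹ ∈ (P : Subgroup Q) ∧ _
        refine ⟨hPn.conj_mem a ha _, fun h => ha' ?_⟩
        change ConjAct.ofConjAct g * a * (ConjAct.ofConjAct g)⁻¹ = 1 at h
        rwa [mul_inv_eq_one, mul_eq_left] at h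
      · rintro ⟨hx, hx1⟩
        obtain ⟨g, hg⟩ := invol_conj hC (orderOf_elementary hel ha ha') (orderOf_elementary hel hx hx1)
        exact ⟨ConjAct.toConjAct g, hg⟩
    have hO3 : Nat.card O = 3 := by
      rw [hOP]
      haveI := Fintype.ofFinite Q
      rw [show ({x : Q | x ∈ (P : Subgroup Q) ∧ x ≠ 1} : Set Q) = ((P : Subgroup Q) : Set Q) \ {1} from rfl,
        Nat.card_coe_set_eq, Set.ncard_sdiff_singleton_of_mem (one_mem _), ← Nat.card_coe_set_eq]
      exact (congrArg (· - 1) hcard).trans rfl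
    have h3 : 3 ∣ Nat.card Q := by
      rw [← hO3]
      exact (Dvd.intro _ (Nat.card_congr (MulAction.orbitProdStabilizerEquivGroup (ConjAct Q) a)
        |>.symm.trans (Nat.card_prod _ _)).symm).trans (Nat.card_congr ConjAct.ofConjAct.toEquiv).dvd
    rw [← (P : Subgroup Q).card_mul_index, hcard] at h3
    exact (Nat.Coprime.dvd_mul_left (by norm_num)).1 h3
  refine iso_alt_four h12 fun R hR hR3 => ?_
  have h' := Fusion.le_pPrimeCore (p := 2) (N := R) (by rw [hR3]; norm_num)
  rw [show pPrimeCore 2 Q = Cfsg.oddCore Q from rfl, hO, le_bot_iff] at h'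
  rw [h', Subgroup.card_bot] at hR3
  omega

end Cfsg.Agent.Solv.EqualOrder
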