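import Mathlib
import Cfsg.Agent.Lib.Solv.EqualOrder.Solvable
import Cfsg.Agent.Lib.Lie.InvCentralizerFour
import Cfsg.Agent.Lib.Lie.OrderSixty
import Cfsg.Agent.Lib.Classical.PSL2Poly
import Cfsg.Agent.Lib.Classical.PThree.Sub.Dickson
import Cfsg.Agent.Lib.Small.OrderFiveHundredFourIso
import Cfsg.Agent.Lib.Lead.JankoRee.Aut
import Cfsg.Agent.S3188

/-!
# Equal order subgroups: the elementary abelian case with a non-solvable group
-/

set_option autoImplicit false
set_option linter.style.haveILetI false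
set_option linter.unusedSectionVars false

open scoped Pointwise

namespace Cfsg.Agent.Solv.EqualOrder

open Cfsg Cfsg.Agent

universe u

variable {Q : Type u} [Group Q] [Finite Q]

/-- The two-part of the order of a group is the order of its Sylow two-subgroups. -/
theorem sylow_card_eq {R : Type*} [Group R] [Finite R] (S : Sylow 2 R) {a m : ℕ} (hm : Odd m)
    (h : Nat.card R = 2 ^ a * m) : Nat.card S = 2 ^ a := by
  haveI : Fact (Nat.Prime 2) := ⟨Nat.prime_two⟩
  rw [Sylow.card_eq_multiplicity S, h, Nat.factorization_mul (pow_ne_zero _ two_ne_zero) hm.pos.ne',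
    Finsupp.add_apply, Nat.Prime.factorization_pow Nat.prime_two, Finsupp.single_eq_same,
    Nat.factorization_eq_zero_of_not_dvd (fun hd => by obtain ⟨k, rfl⟩ := hd; obtain ⟨j, hj⟩ := hm; omega),
    add_zero]

/-- A simple group of order sixty from a self-centralizing four-group. -/
theorem sixty_of_four {X : Type u} [Group X] [Finite X] [IsSimpleGroup X] (hbig : 60 ≤ Nat.card X)
    (h4 : NoFour X) (S : Sylow 2 X) (hS : Nat.card S = 4)
    (hself : ∀ V : Subgroup X, IsKleinFour V → Subgroup.centralizer (V : Set X) ≤ V)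
    (hcore : ∀ t : X, orderOf t = 2 → ∀ R : Sylow 2 (Subgroup.centralizer ({t} : Set X)),
      (R : Subgroup (Subgroup.centralizer ({t} : Set X))).Normal) :
    Nat.card X = 60 := by
  classical
  haveI : Fact (Nat.Prime 2) := ⟨Nat.prime_two⟩
  have hexp : ∀ a ∈ (S : Subgroup X), a ^ 2 = 1 := fun a ha => by
    obtain ⟨k, hk⟩ := S.2 ⟨a, ha⟩
    exact h4 a k (congrArg Subtype.val hk)
  have hcomm : ∀ a ∈ (S : Subgroup X), ∀ b ∈ (S : Subgroup X), a * b = b * a := fun a ha b hb => by
    have h1 := hexp a ha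
    have h2 := hexp b hb
    have h3 := hexp (a * b) (mul_mem ha hb)
    rw [pow_two] at h1 h2 h3
    calc a * b = a * b * ((b * a) * (b * a)⁻¹) := by group
      _ = (a * (b * b) * a) * (b * a)⁻¹ := by group
      _ = (b * a)⁻¹ := by rw [h2, mul_one, h1, one_mul]
      _ = a⁻¹ * b⁻¹ := mul_inv_rev b a
      _ = _ := by rw [inv_eq_of_mul_eq_one_right h1, inv_eq_of_mul_eq_one_right h2]
                  exact (mul_eq_one_iff_eq_inv.1 h3).trans (by
                    rw [mul_inv_rev, inv_eq_of_mul_eq_one_right h1, inv_eq_of_mul_eq_one_right h2])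
  obtain ⟨x, hx⟩ := exists_prime_orderOf_dvd_card' (G := (S : Subgroup X)) 2 (by rw [hS]; norm_num)
  have hx2 : orderOf (x : X) = 2 := by rw [Subgroup.orderOf_coe, hx]
  set C := Subgroup.centralizer ({(x : X)} : Set X) with hCdef
  have hSC : (S : Subgroup X) ≤ C := fun a ha =>
    Subgroup.mem_centralizer_singleton_iff.2 (hcomm a ha x x.2)
  let R : Sylow 2 C := S.subtype hSC
  haveI hR : (R : Subgroup C).Normal := hcore (x : X) hx2 R
  haveI : IsKleinFour (S : Subgroup X) := by
    haveI : Nontrivial (S : Subgroup X) := Finite.one_lt_card_iff_nontrivial.1 (by omega)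
    exact ⟨hS, (Monoid.exponent_eq_prime_iff Nat.prime_two).2 fun a h1 =>
      orderOf_eq_prime (Subtype.ext (hexp a a.2)) h1⟩
  -- squares of elements of `C` centralize `S`
  have hCS : C ≤ (S : Subgroup X) := by
    intro g hg
    have hnorm : ∀ a ∈ (S : Subgroup X), g * a * g⁻¹ ∈ (S : Subgroup X) := fun a ha =>
      hR.conj_mem ⟨a, hSC ha⟩ ha ⟨g, hg⟩
    have hgx : g * x * g⁻¹ = x := by rw [Subgroup.mem_centralizer_singleton_iff.1 hg, mul_inv_cancel_right]
    have helts : ∀ a ∈ (S : Subgroup X), ∀ b ∈ (S : Subgroup X), b ≠ 1 → b ≠ (x : X) → a = 1 ∨ a = x ∨ a = b ∨ a = (x : X) * b := by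
      intro a ha b hb hb1 hbx
      by_contra hne
      push Not at hne
      haveI := Fintype.ofFinite X
      have hsub : ({1, (x : X), b, (x : X) * b, a} : Finset X) ⊆ Finset.univ.filter (· ∈ (S : Subgroup X)) := by
        intro y hy
        simp only [Finset.mem_insert, Finset.mem_singleton] at hy
        rcases hy with rfl | rfl | rfl | rfl | rfl <;> simp [one_mem, x.2, hb, ha, mul_mem x.2 hb]
      have h5 := Finset.card_le_card hsub
      rw [← Fintype.card_subtype, ← Nat.card_eq_fintype_card, show Nat.card {y // y ∈ (S : Subgroup X)} = 4 from hS] at h5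
      have hx1 : (x : X) ≠ 1 := fun h => by rw [h, orderOf_one] at hx2; omega
      have hxb : (x : X) * b ≠ 1 := fun h => hbx (by
        rw [← mul_eq_one_iff_inv_eq.1 h]
        exact inv_eq_of_mul_eq_one_right ((pow_two (x : X)).symm.trans (hexp _ x.2)))
      rw [Finset.card_insert_of_notMem, Finset.card_insert_of_notMem, Finset.card_insert_of_notMem,
        Finset.card_insert_of_notMem, Finset.card_singleton] at h5
      · omega
      · simpa using hne.2.2.2.symm
      · simp only [Finset.mem_insert, Finset.mem_singleton, not_or]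
        exact ⟨fun h => hx1 (mul_eq_right.1 h.symm), hne.2.2.1.symm⟩
      · simp only [Finset.mem_insert, Finset.mem_singleton, not_or]
        exact ⟨hbx.symm, fun h => hb1 (mul_eq_left.1 h.symm), hne.2.1.symm⟩
      · simp only [Finset.mem_insert, Finset.mem_singleton, not_or]
        exact ⟨hx1.symm, hb1.symm, hxb.symm, hne.1.symm⟩
    have hgg : g * g ∈ (S : Subgroup X) := by
      refine hself (S : Subgroup X) inferInstance (Subgroup.mem_centralizer_iff.2 fun a ha => ?_)
      suffices h : g * g * a * (g * g)⁻¹ = a by rw [← mul_inv_eq_iff_eq_mul.1 h]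
      rw [show g * g * a * (g * g)⁻¹ = g * (g * a * g⁻¹) * g⁻¹ by group]
      rcases eq_or_ne a 1 with rfl | ha1
      · group
      rcases eq_or_ne a (x : X) with rfl | hax
      · rw [hgx, hgx]
      rcases helts _ (hnorm a ha) a ha ha1 hax with h | h | h | h
      · exact absurd (by simpa [conj_eq_one_iff] using h) ha1
      · exact absurd (mul_left_cancel (mul_right_cancel (h.trans hgx.symm))) hax
      · rw [h, h]
      · rw [h, show g * ((x : X) * a) * g⁻¹ = (g * x * g⁻¹) * (g * a * g⁻¹) by group, hgx, h, ← mul_assoc,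
          ← pow_two, hexp _ x.2, one_mul]
    have hg4 : g ^ 2 ^ 2 = 1 := by
      rw [show (2 : ℕ) ^ 2 = 2 * 2 from rfl, pow_mul, pow_two g]
      exact hexp _ hgg
    have hg2 := h4 g 2 hg4
    -- an element of two-power order of `C` lies in the normal Sylow subgroup
    have hz : IsPGroup 2 (Subgroup.zpowers (⟨g, hg⟩ : C)) := IsPGroup.of_card (n := 0 + (orderOf (⟨g, hg⟩ : C)).factorization 2) (by
      rw [Nat.card_zpowers, zero_add]
      rcases (Nat.dvd_prime Nat.prime_two).1 (orderOf_dvd_of_pow_eq_one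
        (show (⟨g, hg⟩ : C) ^ 2 = 1 from Subtype.ext hg2)) with h | h <;> rw [h]
      · simp
      · rw [Nat.prime_two.factorization_self, pow_one])
    have hle : Subgroup.zpowers (⟨g, hg⟩ : C) ≤ (R : Subgroup C) := by
      obtain ⟨R', hR'⟩ := hz.exists_le_sylow
      obtain ⟨c, hc⟩ := MulAction.exists_smul_eq C R R'
      rwa [← hc, Sylow.smul_eq_of_normal] at hR'
    exact hle (Subgroup.mem_zpowers _)
  have hC4 : Nat.card C = 4 := by rw [le_antisymm hCS hSC, hS]
  have hnc : ¬ HasNormalPComplement 2 X := by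
    rintro ⟨T, N, hN, hc⟩
    have hT : Nat.card T = 4 := (Nat.card_congr (T.equiv S).toEquiv).trans hS
    have hmul := hc.card_mul
    rw [hT] at hmul
    rcases IsSimpleGroup.eq_bot_or_eq_top_of_normal N hN with h | h
    · rw [h, Subgroup.card_bot, one_mul] at hmul; omega
    · rw [h, Subgroup.card_top] at hmul; omega
  rcases Lie.InvFour.order_of_self_centralising S hS x.2 hx2 hC4 hnc with h | h <;> omega

theorem card_psl_odd {F : Type} [Field F] [Fintype F]
    (h35 : Fintype.card F % 8 = 3 ∨ Fintype.card F % 8 = 5) (h5 : 5 ≤ Fintype.card F) :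
    60 ≤ Nat.card (Matrix.ProjectiveSpecialLinearGroup (Fin 2) F) ∧
      ∃ m : ℕ, Odd m ∧ Nat.card (Matrix.ProjectiveSpecialLinearGroup (Fin 2) F) = 2 ^ 2 * m := by
  have h := Classical.Dickson.card_P2 (F := F)
  rw [Nat.gcd_eq_left (show 2 ∣ Fintype.card F - 1 by omega)] at h
  obtain ⟨j, hj, hq⟩ : ∃ j, Odd j ∧ Fintype.card F ^ 2 - 1 = 8 * j := by
    rcases h35 with h3 | h3
    · obtain ⟨k, hk⟩ : ∃ k, Fintype.card F = 8 * k + 3 := ⟨Fintype.card F / 8, by omega⟩
      exact ⟨8 * k * k + 6 * k + 1, ⟨4 * k * k + 3 * k, by ring⟩, by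
        rw [hk]; apply Nat.sub_eq_of_eq_add; ring⟩
    · obtain ⟨k, hk⟩ : ∃ k, Fintype.card F = 8 * k + 5 := ⟨Fintype.card F / 8, by omega⟩
      exact ⟨8 * k * k + 10 * k + 3, ⟨4 * k * k + 5 * k + 1, by ring⟩, by
        rw [hk]; apply Nat.sub_eq_of_eq_add; ring⟩
  rw [hq] at h
  have hj3 : 3 ≤ j := by
    have : 25 ≤ Fintype.card F ^ 2 := by nlinarith
    omega
  refine ⟨?_, Fintype.card F * j, Nat.odd_mul.2 ⟨Nat.odd_iff.2 (by omega), hj⟩, ?_⟩
  · nlinarith
  · linarith

/-- The cases left by the reduction to almost simple groups. -/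
theorem nonsolvable_cases (hC : AllConj Q) (hO : Cfsg.oddCore Q = ⊥) (P : Sylow 2 Q)
    (hel : Cfsg.IsElementaryAbelian 2 (P : Subgroup Q)) (hns : ¬ Group.IsSolvable Q) {n : ℕ} (hn : 2 ≤ n)
    (hcard : Nat.card P = 2 ^ n) :
    ∃ N : Subgroup Q, N.Normal ∧ Subgroup.centralizer (N : Set Q) = ⊥ ∧ (P : Subgroup Q) ≤ N ∧
      ((n = 2 ∧ IsSimpleGroup N ∧ Nat.card N = 60) ∨
        ∃ (F : Type) (_ : Field F) (_ : Fintype F), 3 ≤ n ∧ Fintype.card F = 2 ^ n ∧
          Nonempty (↥N ≃* Matrix.ProjectiveSpecialLinearGroup (Fin 2) F)) := by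
  classical
  haveI : Fact (Nat.Prime 2) := ⟨Nat.prime_two⟩
  have h4 := noFour_of_elementary P hel
  rcases S3188.result P hel.1 (fun t ht => centralizer_solvable hC h4 ht) with
    hs | ⟨F, iF, iFF, hq, N₀, hN₀, ⟨f⟩, hcent⟩
  · exact absurd hs hns
  let e : Q ⧸ Cfsg.oddCore Q ≃* Q := (QuotientGroup.quotientMulEquivOfEq hO).trans QuotientGroup.quotientBot
  set N := N₀.map e.toMonoidHom with hNdef
  haveI hN : N.Normal := hN₀.map _ e.surjective
  let f' : N ≃* Matrix.ProjectiveSpecialLinearGroup (Fin 2) F :=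
    (N₀.equivMapOfInjective e.toMonoidHom e.injective).symm.trans f
  have hcN : Subgroup.centralizer (N : Set Q) = ⊥ := by
    refine (Subgroup.eq_bot_iff_forall _).2 fun x hx => ?_
    have h1 : e.symm x ∈ Subgroup.centralizer (N₀ : Set (Q ⧸ Cfsg.oddCore Q)) :=
      Subgroup.mem_centralizer_iff.2 fun y hy => e.injective (by
        rw [map_mul, map_mul, e.apply_symm_apply]
        exact Subgroup.mem_centralizer_iff.1 hx (e y) ⟨y, hy, rfl⟩)
    rw [hcent, Subgroup.mem_bot] at h1
    simpa using congrArg e h1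
  haveI := finite_P2 (F := F)
  have h4q : 4 ≤ Fintype.card F := by
    rcases hq with ⟨-, h⟩ | ⟨k, hk, hF⟩
    · omega
    · rw [hF]
      calc (4 : ℕ) = 2 ^ 2 := rfl
        _ ≤ 2 ^ k := Nat.pow_le_pow_right two_pos hk
  haveI hsP := S0810.psl_simple_big h4q
  haveI : Nontrivial N := f'.toEquiv.nontrivial
  haveI hsN : IsSimpleGroup N := IsSimpleGroup.isSimpleGroup_of_surjective f'.symm.toMonoidHom f'.symm.surjective
  obtain ⟨t, htN, ht⟩ := exists_invol hO N (fun h => by
    rw [Subgroup.nontrivial_iff_ne_bot] at *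
    exact ‹N ≠ ⊥› h)
  have hPN := sylow_le_of_invol hC P hel N htN ht
  let S : Sylow 2 N := P.subtype hPN
  have hSc : Nat.card S = 2 ^ n := (Nat.card_congr (Subgroup.subgroupOfEquivOfLe hPN).toEquiv).trans hcard
  refine ⟨N, hN, hcN, hPN, ?_⟩
  rcases hq with ⟨h35, h5⟩ | ⟨k, hk, hF⟩
  · left
    obtain ⟨h60, m, hm, hc⟩ := card_psl_odd h35 h5
    rw [← Nat.card_congr f'.toEquiv] at h60 hc
    have hn2 : n = 2 := Nat.pow_right_injective le_rfl (hSc.symm.trans (sylow_card_eq S hm hc))
    subst hn2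
    refine ⟨rfl, hsN, sixty_of_four h60 ?_ S hSc ?_ ?_⟩
    · intro g k hg
      exact Subtype.ext (h4 (g : Q) k (congrArg Subtype.val hg))
    · intro V hV g hg
      haveI := hV
      have h2 : (2 : F) ≠ 0 := Lead.JankoRee.two_ne_zero_of_odd_card (Nat.odd_iff.2 (by omega))
      have hV' : IsKleinFour (V.map f'.toMonoidHom) := by
        let eV := V.equivMapOfInjective f'.toMonoidHom f'.injective
        exact ⟨(Nat.card_congr eV.symm.toEquiv).trans IsKleinFour.card_four,
          (Monoid.exponent_eq_of_mulEquiv eV.symm).trans IsKleinFour.exponent_two⟩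
      obtain ⟨v, hv, hvg⟩ := Classical.SL2Four.klein_self_centralizing h2 hV'
        (show f' g ∈ Subgroup.centralizer ((V.map f'.toMonoidHom : Subgroup _) : Set _) from
          Subgroup.mem_centralizer_iff.2 fun y hy => by
            obtain ⟨v, hv, rfl⟩ := hy
            show f' v * f' g = f' g * f' v
            rw [← map_mul, ← map_mul, Subgroup.mem_centralizer_iff.1 hg v hv])
      exact f'.injective hvg ▸ hv
    · intro t ht R
      have htQ : orderOf (t : Q) = 2 := by rw [Subgroup.orderOf_coe, ht]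
      obtain ⟨R₀⟩ : Nonempty (Sylow 2 (Subgroup.centralizer ({(t : Q)} : Set Q))) := inferInstance
      set O := Cfsg.pCore 2 (Subgroup.centralizer ({(t : Q)} : Set Q)) with hOdef
      have hall : ∀ y : Subgroup.centralizer ({(t : Q)} : Set Q), (∃ j, y ^ 2 ^ j = 1) → y ∈ O := by
        rintro y ⟨j, hy⟩
        rcases eq_or_ne y 1 with rfl | h1
        · exact one_mem _
        refine mem_core_centralizer hC htQ (orderOf_eq_prime (Subtype.ext (h4 (y : Q) j ?_)) h1)
        exact congrArg Subtype.val hy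
      let incl : Subgroup.centralizer ({t} : Set N) →* Subgroup.centralizer ({(t : Q)} : Set Q) :=
        { toFun := fun c => ⟨((c : N) : Q), Subgroup.mem_centralizer_singleton_iff.2
            (congrArg Subtype.val (Subgroup.mem_centralizer_singleton_iff.1 c.2))⟩
          map_one' := rfl
          map_mul' := fun _ _ => rfl }
      refine ⟨fun r hr c => ?_⟩
      have hp : IsPGroup 2 (O.comap incl) := (Fusion.isPGroup_pCore 2 _).comap_of_injective incl
        (fun a b h => Subtype.ext (Subtype.ext (congrArg Subtype.val h :)))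
      have hRO : (R : Subgroup _) ≤ O.comap incl := fun s hs => hall _ (by
        obtain ⟨j, hj⟩ := R.2 ⟨s, hs⟩
        exact ⟨j, by rw [← map_pow, show s ^ 2 ^ j = 1 from congrArg Subtype.val hj, map_one]⟩)
      haveI : (O.comap incl).Normal := inferInstance
      rw [← R.3 hp hRO] at hr ⊢
      exact ‹(O.comap incl).Normal›.conj_mem r hr c
  · have hodd : Odd ((2 ^ k) ^ 2 - 1) := by
      have h1 : 1 ≤ (2 ^ k) ^ 2 := Nat.one_le_pow _ _ (pow_pos two_pos k)
      rcases Nat.even_or_odd ((2 ^ k) ^ 2 - 1) with h | h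
      · exfalso
        have he : Even ((2 ^ k) ^ 2) := by rw [← pow_mul]; exact (Nat.even_pow.2 ⟨even_two, by omega⟩)
        rw [Nat.even_sub h1] at h
        exact absurd (h.1 he) (by decide)
      · exact h
    have hc := card_psl_two (by omega) hF
    rw [← Nat.card_congr f'.toEquiv] at hc
    have hnk : n = k := Nat.pow_right_injective le_rfl (hSc.symm.trans (sylow_card_eq S hodd hc))
    subst hnk
    rcases (show n = 2 ∨ 3 ≤ n by omega) with rfl | h3
    · exact Or.inl ⟨rfl, hsN, by rw [hc]; norm_num⟩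
    · exact Or.inr ⟨F, iF, iFF, h3, hF, ⟨f'⟩⟩

/-- Conjugation on a normal subgroup with trivial centralizer. -/
theorem conjNormal_injective (N : Subgroup Q) [N.Normal] (hc : Subgroup.centralizer (N : Set Q) = ⊥) :
    Function.Injective (MulAut.conjNormal : Q →* MulAut N) := by
  refine (injective_iff_map_eq_one _).2 fun x hx => ?_
  rw [← Subgroup.mem_bot, ← hc, Subgroup.mem_centralizer_iff]
  intro a ha
  have h1 := congrArg Subtype.val (DFunLike.congr_fun hx (⟨a, ha⟩ : N))
  change x * a * x⁻¹ = a at h1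
  exact (mul_inv_eq_iff_eq_mul.1 h1).symm

theorem card_mulAut_congr {A : Type u} [Group A] {B : Type} [Group B] (e : A ≃* B) :
    Nat.card (MulAut A) = Nat.card (MulAut B) := Nat.card_congr (MulAut.congr e).toEquiv

theorem nonsolvable (hC : AllConj Q) (hO : Cfsg.oddCore Q = ⊥) (P : Sylow 2 Q)
    (hel : Cfsg.IsElementaryAbelian 2 (P : Subgroup Q)) (hns : ¬ Group.IsSolvable Q) {n : ℕ} (hn : 2 ≤ n)
    (hcard : Nat.card P = 2 ^ n) :
    (n = 2 ∧ Nonempty (Q ≃* alternatingGroup (Fin 5))) ∨
      (3 ≤ n ∧ (Nonempty (Q ≃* Matrix.ProjectiveSpecialLinearGroup (Fin 2) (GaloisField 2 3)) ∨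
        Nonempty (Q ≃* MulAut (Matrix.ProjectiveSpecialLinearGroup (Fin 2) (GaloisField 2 5))))) := by
  classical
  haveI : Fact (Nat.Prime 2) := ⟨Nat.prime_two⟩
  obtain ⟨N, hN, hcN, hPN, hcase⟩ := nonsolvable_cases hC hO P hel hns hn hcard
  haveI := hN
  have hinj := conjNormal_injective N hcN
  letI : Fintype (GaloisField 2 2) := Fintype.ofFinite _
  letI : Fintype (GaloisField 2 3) := Fintype.ofFinite _
  letI : Fintype (GaloisField 2 5) := Fintype.ofFinite _
  haveI : Finite (MulAut N) := Finite.of_injective _ MulEquiv.toEquiv_injective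
  have hle : Nat.card Q ≤ Nat.card (MulAut N) := Nat.card_le_card_of_injective _ hinj
  have hidx : ¬ 2 ∣ N.index := fun h => P.not_dvd_index (h.trans (Subgroup.index_dvd_of_le hPN))
  have hmul := N.card_mul_index
  have htop : N.index = 1 → ∀ {B : Type} [Group B], Nonempty (N ≃* B) → Nonempty (Q ≃* B) :=
    fun h B _ ⟨g⟩ => ⟨(Subgroup.topEquiv.symm.trans (MulEquiv.subgroupCongr (Subgroup.index_eq_one.1 h).symm)).trans g⟩
  rcases hcase with ⟨rfl, hs, h60⟩ | ⟨F, iF, iFF, h3, hF, ⟨f⟩⟩
  · refine Or.inl ⟨rfl, ?_⟩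
    haveI := hs
    have hA := Lie.simple_sixty h60
    -- the automorphism group has order at most 120
    have hG4 : Fintype.card (GaloisField 2 2) = 2 ^ 2 := by
      rw [← Nat.card_eq_fintype_card]; exact GaloisField.card 2 2 two_ne_zero
    haveI := finite_P2 (F := GaloisField 2 2)
    haveI := S0810.psl_simple_big (F := GaloisField 2 2) (by rw [hG4]; norm_num)
    have hc4 := card_psl_two two_pos hG4
    obtain ⟨a⟩ := hA
    obtain ⟨b⟩ := Lie.simple_sixty (G := Matrix.ProjectiveSpecialLinearGroup (Fin 2) (GaloisField 2 2)) (by rw [hc4]; norm_num)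
    have hb := card_mulAut_le two_pos hG4
    rw [hc4, ← card_mulAut_congr (a.trans b.symm)] at hb
    refine htop ?_ ⟨a⟩
    rw [h60] at hmul
    have h0 := Subgroup.index_ne_zero_of_finite (H := N)
    norm_num at hb
    omega
  refine Or.inr ⟨h3, ?_⟩
  haveI := finite_P2 (F := F)
  haveI := S0810.psl_simple_big (F := F) (by
    rw [hF]
    calc (4 : ℕ) = 2 ^ 2 := rfl
      _ ≤ 2 ^ n := Nat.pow_le_pow_right two_pos hn)
  have hb := card_mulAut_le (by omega) hF
  rw [← card_mulAut_congr f] at hb
  have hcN' := (Nat.card_congr f.toEquiv).trans (card_psl_two (by omega) hF)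
  -- the normalizer of the Sylow subgroup
  set M := Subgroup.normalizer ((P : Subgroup Q) : Set Q) with hM
  have hsolM : Group.IsSolvable (M ⧸ pPrimeCore 2 M) := by
    haveI : ((P : Subgroup Q).subgroupOf M).Normal := Subgroup.normal_in_normalizer
    haveI : Group.IsSolvable M := by
      refine odd_quotient_solvable (P.subtype Subgroup.le_normalizer) ((P : Subgroup Q).subgroupOf M) le_rfl ?_
      haveI := (P.2.comap_of_injective M.subtype M.subtype_injective).isNilpotent
      exact inferInstanceAs (Group.IsSolvable ↥((P : Subgroup Q).comap M.subtype))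
    infer_instance
  have hdvd : Nat.card (M ⧸ pPrimeCore 2 M) ∣ Nat.card Q :=
    (Subgroup.card_quotient_dvd_card _).trans (Subgroup.card_subgroup_dvd_card M)
  rcases Solv.EqualOrderAffine.main (p := 2) (fun H K _ _ h => hC H K h) P n h3 hel hcard M hM hsolM with
    ⟨rfl, -, -⟩ | ⟨rfl, -, ⟨g⟩⟩
  · left
    have hc : Nat.card N = 504 := by rw [hcN']; norm_num
    have hF8 : Fintype.card (GaloisField 2 3) = 8 := by
      rw [← Nat.card_eq_fintype_card]; exact GaloisField.card 2 3 (by norm_num)
    have hQ : N.index = 1 := by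
      rw [hc] at hmul
      have h0 := Subgroup.index_ne_zero_of_finite (H := N)
      have hle3 : N.index ≤ 3 := by rw [card_psl_two (by norm_num) hF] at hb; norm_num at hb; omega
      by_contra h1
      have hi : N.index = 3 := by omega
      -- then every automorphism is realised
      have hsur : Function.Surjective (MulAut.conjNormal : Q →* MulAut N) :=
        ((Function.Injective.bijective_of_nat_card_le hinj (by
          rw [← hmul, hi]; rw [card_psl_two (by norm_num) hF] at hb; norm_num at hb ⊢; omega))).2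
      obtain ⟨α, hα, hout⟩ := exists_outer_three hF
      obtain ⟨x, hx⟩ := hsur ((MulAut.congr f).symm α)
      have hxo : orderOf x = 3 := by
        rw [← orderOf_injective (MulAut.conjNormal : Q →* MulAut N) hinj x, hx, MulEquiv.orderOf_eq, hα]
      haveI : Fact (Nat.Prime 3) := ⟨Nat.prime_three⟩
      obtain ⟨y, hy⟩ := exists_prime_orderOf_dvd_card' (G := N) 3 (by rw [hc]; norm_num)
      obtain ⟨c, hcx⟩ := hC (Subgroup.zpowers (y : Q)) (Subgroup.zpowers x)
        (by rw [Nat.card_zpowers, Nat.card_zpowers, Subgroup.orderOf_coe, hy, hxo])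
      have hxN : x ∈ N := by
        have h := hcx ▸ Subgroup.mem_zpowers x
        obtain ⟨z, hz, rfl⟩ := h
        exact hN.conj_mem z ((Subgroup.zpowers_le.2 y.2) hz) c
      refine hout ⟨f ⟨x, hxN⟩, ?_⟩
      have he : MulAut.congr f (MulAut.conjNormal x) = α := by rw [hx, MulEquiv.apply_symm_apply]
      rw [← he]
      refine MulEquiv.ext fun w => ?_
      have hw : (MulAut.conjNormal x : MulAut N) (f.symm w) = ⟨x, hxN⟩ * f.symm w * ⟨x, hxN⟩⁻¹ := Subtype.ext rfl
      show f ⟨x, hxN⟩ * w * (f ⟨x, hxN⟩)⁻¹ = f ((MulAut.conjNormal x : MulAut N) (f.symm w))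
      rw [hw, map_mul, map_mul, map_inv, f.apply_symm_apply]
    haveI : IsSimpleGroup Q := by
      obtain ⟨q⟩ := htop hQ ⟨f⟩
      haveI : Nontrivial Q := q.toEquiv.nontrivial
      exact IsSimpleGroup.isSimpleGroup_of_surjective q.symm.toMonoidHom q.symm.surjective
    exact Small.OrderFiveHundredFour.iso (by rw [← hmul, hQ, hc]) hF8
  · right
    have h5 : 5 ∣ Nat.card Q := by
      refine (dvd_trans ?_ hdvd)
      rw [Nat.card_congr g.toEquiv, card_semiaffine, Solv.PlaneTransitive.card_aut 5 (by norm_num)]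
      exact dvd_mul_left 5 _
    have hG32 : Fintype.card (GaloisField 2 5) = 2 ^ 5 := by
      rw [← Nat.card_eq_fintype_card]; exact GaloisField.card 2 5 (by norm_num)
    have hc : Nat.card N = 32736 := by rw [hcN']; norm_num
    rw [hc] at hmul
    have hi : 5 ∣ N.index := by
      rw [← hmul] at h5
      exact (Nat.Coprime.dvd_mul_left (by norm_num)).1 h5
    have hbij : Function.Bijective (MulAut.conjNormal : Q →* MulAut N) :=
      Function.Injective.bijective_of_nat_card_le hinj (by
        rw [← hmul]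
        have h0 := Subgroup.index_ne_zero_of_finite (H := N)
        have : 5 ≤ N.index := Nat.le_of_dvd (by omega) hi
        rw [card_psl_two (by norm_num) hF] at hb
        norm_num at hb ⊢
        omega)
    let r : F ≃+* GaloisField 2 5 := FiniteField.ringEquivOfCardEq (hF.trans hG32.symm)
    exact ⟨(MulEquiv.ofBijective _ hbij).trans (MulAut.congr (f.trans (Classical.Dickson.pslCongr r)))⟩

end Cfsg.Agent.Solv.EqualOrder
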