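import Mathlib
import Cfsg.Agent.Lib.Solv.EqualOrder.NonSolvable
import Cfsg.Agent.Lib.Solv.EqualOrder.AltFacts
import Cfsg.Agent.S4020
import Cfsg.Agent.Lib.GW.DepQuaternion
import Cfsg.Agent.Lib.GW.DepCentralExt
import Cfsg.Agent.Lib.Fusion.QuaternionSection

/-!
# Groups in which subgroups of equal order are conjugate
-/

set_option autoImplicit false
set_option linter.style.haveILetI false
set_option linter.unusedSectionVars false

open scoped Pointwise commutatorElement

namespace Cfsg.Agent.Solv.EqualOrder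

open Cfsg Cfsg.Agent

universe u

variable {Q : Type u} [Group Q] [Finite Q]

theorem cyclic_case (hO : Cfsg.oddCore Q = ⊥) (P : Sylow 2 Q) (hP : IsCyclic P) :
    IsCyclic Q ∧ IsPGroup 2 Q := by
  haveI : Fact (Nat.Prime 2) := ⟨Nat.prime_two⟩
  have key : (P : Subgroup Q) = ⊤ := by
    rcases subsingleton_or_nontrivial Q with h | h
    · exact Subsingleton.elim _ _
    by_cases h2 : 2 ∣ Nat.card Q
    swap
    · exfalso
      have h' := Fusion.le_pPrimeCore (p := 2) (N := (⊤ : Subgroup Q)) (by
        rw [Subgroup.card_top]; exact ((Nat.prime_two.coprime_iff_not_dvd).2 h2).symm)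
      rw [show pPrimeCore 2 Q = Cfsg.oddCore Q from rfl, hO, le_bot_iff] at h'
      exact top_ne_bot h'
    have hmf : (Nat.card Q).minFac = 2 := (Nat.minFac_eq_two_iff _).2 h2
    obtain ⟨T, K, hK, hc⟩ := Fusion.hnpc_of_normalizer_le_centralizer P
      (IsCyclic.normalizer_le_centralizer hmf (P := P) hP)
    haveI := hK
    have hKodd : Odd (Nat.card K) := by
      rw [← hc.index_eq_card]
      exact Nat.not_even_iff_odd.1 fun h => T.not_dvd_index (even_iff_two_dvd.1 h)
    have h' := Fusion.le_pPrimeCore (p := 2) (N := K) (Nat.coprime_two_right.2 hKodd)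
    rw [show pPrimeCore 2 Q = Cfsg.oddCore Q from rfl, hO, le_bot_iff] at h'
    refine Subgroup.eq_top_of_card_eq _ ?_
    rw [← hc.card_mul, h', Subgroup.card_bot, one_mul]
    exact Nat.card_congr (P.equiv T).toEquiv
  haveI := hP
  let e : (P : Subgroup Q) ≃* Q := (MulEquiv.subgroupCongr key).trans Subgroup.topEquiv
  exact ⟨isCyclic_of_surjective e e.surjective, P.2.of_equiv e⟩

/-- The elementary abelian case of rank two. -/
theorem four_case (hC : AllConj Q) (hO : Cfsg.oddCore Q = ⊥) (P : Sylow 2 Q)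
    (hel : Cfsg.IsElementaryAbelian 2 (P : Subgroup Q)) (hcard : Nat.card P = 4) :
    Nonempty (Q ≃* alternatingGroup (Fin 4)) ∨ Nonempty (Q ≃* alternatingGroup (Fin 5)) := by
  by_cases hs : Group.IsSolvable Q
  · exact Or.inl (solvable_four hC hO P hel hs hcard)
  · rcases nonsolvable hC hO P hel hs (n := 2) le_rfl hcard with ⟨-, h⟩ | ⟨h, -⟩
    · exact Or.inr h
    · omega

/-- The quaternion case. -/
theorem quaternion_case (hC : AllConj Q) (hO : Cfsg.oddCore Q = ⊥) (P : Sylow 2 Q)
    (e : (P : Subgroup Q) ≃* QuaternionGroup 2) :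
    Nonempty (Q ≃* Matrix.SpecialLinearGroup (Fin 2) (ZMod 3)) ∨
      Nonempty (Q ≃* Matrix.SpecialLinearGroup (Fin 2) (ZMod 5)) := by
  classical
  haveI : Fact (Nat.Prime 2) := ⟨Nat.prime_two⟩
  obtain ⟨hZ, -⟩ := GW.Dep.involution_mem_center hO P 0 e
  set Z := Subgroup.center Q with hZdef
  set π := QuotientGroup.mk' Z with hπ
  have hsurj : Function.Surjective π := QuotientGroup.mk'_surjective Z
  have hker : π.ker = Z := QuotientGroup.ker_mk' Z
  have hPcard : Nat.card P = 8 := (Nat.card_congr e.toEquiv).trans (by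
    rw [Nat.card_eq_fintype_card, QuaternionGroup.card])
  have hC' := hC.quotient Z
  have hZP : Z ≤ (P : Subgroup Q) := by
    obtain ⟨T, hT⟩ := (IsPGroup.of_card (p := 2) (n := 1) (G := Z) (by rw [hZ]; rfl)).exists_le_sylow
    obtain ⟨c, rfl⟩ := MulAction.exists_smul_eq Q P T
    intro z hz
    have h := hT hz
    rw [Sylow.coe_subgroup_smul] at h
    have h1 : c⁻¹ * z * c ∈ (P : Subgroup Q) := Fusion.mem_cj.1 h
    rwa [show c⁻¹ * z * c = z by rw [mul_assoc, ← Subgroup.mem_center_iff.1 hz c, inv_mul_cancel_left]] at h1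
  set S : Sylow 2 (Q ⧸ Z) := P.mapSurjective hsurj with hSdef
  -- the unique involution of the quaternion group
  have hq : ∀ x : QuaternionGroup 2, x * x = 1 → x = 1 ∨ x = QuaternionGroup.a 2 := by decide
  have hsqq : ∀ x : QuaternionGroup 2, (x * x) * (x * x) = 1 := by decide
  obtain ⟨z₀, hz₀⟩ := exists_prime_orderOf_dvd_card' (G := Z) 2 (by rw [hZ])
  have hz₀' : e ⟨z₀, hZP z₀.2⟩ = QuaternionGroup.a 2 := by
    rcases hq (e ⟨z₀, hZP z₀.2⟩) (by
      rw [← map_mul, ← map_one e]
      refine congrArg e (Subtype.ext ?_)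
      have h := congrArg Subtype.val (pow_orderOf_eq_one z₀)
      rw [hz₀, pow_two] at h
      exact h) with h | h
    · exfalso
      rw [← map_one e] at h
      have h1 := congrArg Subtype.val (e.injective h)
      rw [show z₀ = 1 from Subtype.ext h1, orderOf_one] at hz₀
      omega
    · exact h
  have hsq : ∀ a ∈ (P : Subgroup Q), a ^ 2 ∈ Z := by
    intro a ha
    rw [pow_two]
    rcases hq (e ⟨a, ha⟩ * e ⟨a, ha⟩) (hsqq _) with h | h
    · rw [← map_mul, ← map_one e] at h
      have h1 : a * a = 1 := congrArg Subtype.val (e.injective h)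
      rw [h1]
      exact one_mem Z
    · rw [← map_mul, ← hz₀'] at h
      have h1 : a * a = z₀ := congrArg Subtype.val (e.injective h)
      rw [h1]
      exact z₀.2
  have hScard : Nat.card S = 4 := by
    have h := Subgroup.relIndex_ker (f := π) (K := (P : Subgroup Q))
    rw [hker] at h
    have h2 := (Z.subgroupOf (P : Subgroup Q)).card_mul_index
    rw [show (Z.subgroupOf (P : Subgroup Q)).index = Z.relIndex P from rfl, h,
      Nat.card_congr (Subgroup.subgroupOfEquivOfLe hZP).toEquiv, hZ, hPcard] at h2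
    show Nat.card ((P : Subgroup Q).map π) = 4
    omega
  have hel : Cfsg.IsElementaryAbelian 2 (S : Subgroup (Q ⧸ Z)) := by
    have hexp : ∀ a ∈ (S : Subgroup (Q ⧸ Z)), a ^ 2 = 1 := by
      rintro _ ⟨a, ha, rfl⟩
      rw [← map_pow, ← MonoidHom.mem_ker, hker]
      exact hsq a ha
    refine ⟨⟨⟨fun a b => Subtype.ext ?_⟩⟩, hexp⟩
    have h1 := hexp a a.2
    have h2 := hexp b b.2
    have h3 := hexp _ (mul_mem a.2 b.2)
    rw [pow_two] at h1 h2 h3
    show (a : Q ⧸ Z) * b = b * a
    have h4 := inv_eq_of_mul_eq_one_right h3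
    rw [mul_inv_rev, inv_eq_of_mul_eq_one_right h1, inv_eq_of_mul_eq_one_right h2] at h4
    exact h4.symm
  have hO' : Cfsg.oddCore (Q ⧸ Z) = ⊥ := by
    set K := (Cfsg.oddCore (Q ⧸ Z)).comap π with hK
    haveI : (Cfsg.oddCore (Q ⧸ Z)).Normal := by
      haveI : (Cfsg.oddCore (Q ⧸ Z)).Characteristic := Fusion.pPrimeCore_characteristic
      infer_instance
    have hodd : Odd (Nat.card (Cfsg.oddCore (Q ⧸ Z))) :=
      Nat.coprime_two_right.1 (Fusion.card_pPrimeCore_coprime 2 (Q ⧸ Z))
    haveI : K.Normal := inferInstance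
    have hZK : Z ≤ K := hker ▸ Subgroup.ker_le_comap π _
    have hKi : (Z.subgroupOf K).index = Nat.card (Cfsg.oddCore (Q ⧸ Z)) := by
      have h := Subgroup.relIndex_ker (f := π) (K := K)
      rwa [hker, Subgroup.map_comap_eq_self_of_surjective hsurj] at h
    have hcZ : Nat.card (Z.subgroupOf K) = 2 := (Nat.card_congr (Subgroup.subgroupOfEquivOfLe hZK).toEquiv).trans hZ
    obtain ⟨H, hH⟩ := Subgroup.exists_right_complement'_of_coprime (N := Z.subgroupOf K) (by
      rw [hcZ, hKi]; exact Nat.coprime_two_left.2 hodd)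
    have hHodd : Odd (Nat.card H) := by rwa [← hH.symm.index_eq_card, hKi]
    -- the elements of odd order form the complement
    have hmem : ∀ k : K, Odd (orderOf k) → k ∈ H := by
      intro k hk
      obtain ⟨⟨z, h⟩, hzh⟩ := (hH.existsUnique k).exists
      have hzc : ∀ g : Q, g * ((z : K) : Q) = ((z : K) : Q) * g := Subgroup.mem_center_iff.1 z.2
      have hc : Commute (z : K) (h : K) := Subtype.ext (hzc _).symm
      have hco : (orderOf (z : K)).Coprime (orderOf (h : K)) := by
        refine Nat.Coprime.coprime_dvd_left (?_ : orderOf (z : K) ∣ 2) (Nat.coprime_two_left.2 (hHodd.of_dvd_nat ?_))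
        · exact hcZ ▸ Subgroup.orderOf_dvd_natCard _ z.2
        · exact Subgroup.orderOf_dvd_natCard _ h.2
      have hzh' : (z : K) * (h : K) = k := hzh
      rw [← hzh', hc.orderOf_mul_eq_mul_orderOf_of_coprime hco, Nat.odd_mul] at hk
      have hz1 : (z : K) = 1 := by
        rcases (Nat.dvd_prime Nat.prime_two).1 (hcZ ▸ Subgroup.orderOf_dvd_natCard _ z.2) with h' | h'
        · exact orderOf_eq_one_iff.1 h'
        · rw [h'] at hk; exact absurd hk.1 (by decide)
      rw [← hzh', hz1, one_mul]
      exact h.2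
    haveI : (H.map K.subtype).Normal := ⟨by
      rintro _ ⟨h, hh, rfl⟩ g
      refine ⟨⟨g * h * g⁻¹, ‹K.Normal›.conj_mem _ h.2 g⟩, hmem _ ?_, rfl⟩
      rw [← Subgroup.orderOf_coe]
      show Odd (orderOf (g * (h : Q) * g⁻¹))
      rw [show g * (h : Q) * g⁻¹ = MulAut.conj g (h : Q) from rfl, MulEquiv.orderOf_eq, Subgroup.orderOf_coe]
      exact hHodd.of_dvd_nat (Subgroup.orderOf_dvd_natCard _ hh)⟩
    have h' := Fusion.le_pPrimeCore (p := 2) (N := H.map K.subtype) (by
      rw [← Nat.card_congr (H.equivMapOfInjective K.subtype K.subtype_injective).toEquiv]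
      exact Nat.coprime_two_right.2 hHodd)
    rw [show pPrimeCore 2 Q = Cfsg.oddCore Q from rfl, hO, le_bot_iff,
      Subgroup.map_eq_bot_iff_of_injective _ K.subtype_injective] at h'
    rw [← Subgroup.card_eq_one, ← hKi, hH.symm.index_eq_card, h', Subgroup.card_bot]
  have hQ := Subgroup.card_eq_card_quotient_mul_card_subgroup Z
  rw [hZ] at hQ
  rcases four_case hC' hO' S hel hScard with ⟨⟨a⟩⟩ | ⟨⟨a⟩⟩
  · left
    have h24 : Nat.card Q = 24 := by
      rw [hQ, Nat.card_congr a.toEquiv, nat_card_alternatingGroup, Nat.card_fin]; rfl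
    haveI : Fact (Nat.Prime 3) := ⟨Nat.prime_three⟩
    obtain ⟨g, hg⟩ := exists_prime_orderOf_dvd_card' (G := Q) 3 (by rw [h24]; norm_num)
    have hg3 : g ^ 3 = 1 := hg ▸ pow_orderOf_eq_one g
    have hPn : (P : Subgroup Q).Normal := by
      have h : ((S : Subgroup (Q ⧸ Z)).comap π) = (P : Subgroup Q) := by
        show ((P : Subgroup Q).map π).comap π = _
        rw [Subgroup.comap_map_eq, hker, sup_eq_left.2 hZP]
      haveI := sylow_normal_of_solvable hC' hO' S hel (by
        haveI := alt_four_solvable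
        exact Group.isSolvable_of_surjective (f := a.symm.toMonoidHom) a.symm.surjective)
      rw [← h]
      exact inferInstance
    have hgn : g ∈ Subgroup.normalizer ((P : Subgroup Q) : Set Q) := by
      rw [Subgroup.normalizer_eq_top]; trivial
    have hgc : g ∉ Subgroup.centralizer ((P : Subgroup Q) : Set Q) := by
      intro hgc
      have himg : π g ∈ Subgroup.centralizer ((S : Subgroup (Q ⧸ Z)) : Set (Q ⧸ Z)) := by
        refine Subgroup.mem_centralizer_iff.2 ?_
        rintro _ ⟨x, hx, rfl⟩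
        rw [← map_mul, ← map_mul, Subgroup.mem_centralizer_iff.1 hgc x hx]
      obtain ⟨s, hs⟩ := exists_prime_orderOf_dvd_card' (G := (S : Subgroup (Q ⧸ Z))) 2 (by rw [hScard]; norm_num)
      have h1 := alt_four_centralizer (a (π g)) (a (s : Q ⧸ Z)) (by rw [← map_pow, ← map_pow, hg3, map_one, map_one])
        (by rw [← map_mul, ← map_one a]; refine congrArg a ?_
            have h2 := pow_orderOf_eq_one s
            rw [hs] at h2
            rw [← pow_two]
            exact congrArg Subtype.val h2)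
        (fun h => by
          rw [← map_one a] at h
          have h' := a.injective h
          rw [← Subgroup.orderOf_coe, h', orderOf_one] at hs
          omega)
        (by rw [← map_mul, ← map_mul, Subgroup.mem_centralizer_iff.1 himg s s.2])
      rw [← map_one a] at h1
      have hgZ : g ∈ Z := by rw [← hker, MonoidHom.mem_ker]; exact a.injective h1
      have := Subgroup.orderOf_dvd_natCard _ hgZ
      rw [hg, hZ] at this
      norm_num at this
    obtain ⟨K, R, hR, ⟨f⟩⟩ := Fusion.involves_sl23_of_quaternion e.symm hgn ⟨1, by simpa using hg3⟩ hgc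
    haveI := hR
    have hc := Nat.card_congr f.toEquiv
    rw [Fusion.card_sl23] at hc
    have hK := Subgroup.card_subgroup_dvd_card K
    have hKR := (R.subgroupOf K).card_mul_index
    rw [Subgroup.index_eq_card, hc] at hKR
    rw [h24] at hK
    have hle := Nat.le_of_dvd (by norm_num) hK
    have hpos : 0 < Nat.card (R.subgroupOf K) := Nat.card_pos
    have hK24 : Nat.card K = 24 := by nlinarith
    have hR1 : R.subgroupOf K = ⊥ := Subgroup.card_eq_one.1 (by nlinarith)
    exact ⟨((Subgroup.topEquiv.symm.trans (MulEquiv.subgroupCongr (Subgroup.eq_top_of_card_eq K (by rw [hK24, h24])).symm)).trans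
      (QuotientGroup.quotientBot.symm.trans (QuotientGroup.quotientMulEquivOfEq hR1.symm))).trans f⟩
  · right
    obtain ⟨b⟩ := PThree.Sub.a5_psl_five
    haveI : Fact (Nat.Prime 5) := ⟨by norm_num⟩
    let φ : Q →* Matrix.ProjectiveSpecialLinearGroup (Fin 2) (ZMod 5) := (a.trans b).toMonoidHom.comp π
    have hφ : Function.Surjective φ := (a.trans b).surjective.comp hsurj
    have hφk : φ.ker = Z := by
      rw [← hker]
      ext x
      simp only [MonoidHom.mem_ker, φ, MonoidHom.comp_apply, MulEquiv.toMonoidHom_eq_coe, MonoidHom.coe_coe,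
        EmbeddingLike.map_eq_one_iff]
    haveI : Group.IsPerfect Q := ⟨by
      by_contra hne
      set D := commutator Q with hD
      have hDmap : D.map π = ⊤ := by
        haveI : IsSimpleGroup (Q ⧸ Z) := by
          haveI : Nontrivial (Q ⧸ Z) := a.toEquiv.nontrivial
          exact IsSimpleGroup.isSimpleGroup_of_surjective a.symm.toMonoidHom a.symm.surjective
        rw [hD, commutator_def, Subgroup.map_commutator, Subgroup.map_top_of_surjective π hsurj, ← commutator_def]
        rcases IsSimpleGroup.eq_bot_or_eq_top_of_normal (commutator (Q ⧸ Z)) inferInstance with h | h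
        · exfalso
          have hcomm : ∀ x y : Q ⧸ Z, x * y = y * x := fun x y => by
            have h1 : ⁅x, y⁆ ∈ commutator (Q ⧸ Z) := Subgroup.commutator_mem_commutator trivial trivial
            rw [h, Subgroup.mem_bot, commutatorElement_eq_one_iff_mul_comm] at h1
            exact h1
          exact alt_five_not_comm fun x y => by
            rw [← a.apply_symm_apply x, ← a.apply_symm_apply y, ← map_mul, hcomm, map_mul]
        · exact h
      have hidx : D.index = 2 := by
        have h1 : D ⊔ Z = ⊤ := by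
          rw [← hker, ← Subgroup.comap_map_eq, hDmap, Subgroup.comap_top]
        haveI : Z.Normal := inferInstance
        have h2 := Subgroup.relIndex_sup_right (K := D) (H := Z)
        rw [sup_comm, h1, Subgroup.relIndex_top_right] at h2
        have h3 : D.relIndex Z ∣ Nat.card Z := Subgroup.index_dvd_card _
        rw [hZ, ← h2] at h3
        rcases (Nat.dvd_prime Nat.prime_two).1 h3 with h | h
        · exact absurd (Subgroup.index_eq_one.1 h) hne
        · exact h
      -- the derived group would be a four-group overgroup with a second involution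
      have hinj : Function.Injective (π.comp D.subtype) := by
        have hDc := D.card_mul_index
        rw [hidx] at hDc
        refine ((Nat.bijective_iff_surjective_and_card _).2 ⟨?_, ?_⟩).1
        · intro y
          obtain ⟨x, hx, rfl⟩ := (hDmap.symm ▸ Subgroup.mem_top y : y ∈ D.map π)
          exact ⟨⟨x, hx⟩, rfl⟩
        · rw [hQ] at hDc; omega
      obtain ⟨z, hz⟩ := exists_prime_orderOf_dvd_card' (G := Z) 2 (by rw [hZ])
      obtain ⟨d, hd⟩ := exists_prime_orderOf_dvd_card' (G := D) 2 (by
        have hDc := D.card_mul_index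
        rw [hidx, hQ, Nat.card_congr a.toEquiv, nat_card_alternatingGroup] at hDc
        norm_num [Nat.factorial] at hDc
        omega)
      obtain ⟨-, hcen⟩ := GW.Dep.involution_mem_center hO P 0 e
      have hdZ : (d : Q) ∈ Z := hcen _ (by rw [Subgroup.orderOf_coe, hd])
      have h1 : (π.comp D.subtype) d = 1 := by
        show π (d : Q) = 1
        rw [← MonoidHom.mem_ker, hker]; exact hdZ
      rw [← map_one (π.comp D.subtype)] at h1
      rw [hinj h1, orderOf_one] at hd
      omega⟩
    exact GW.Dep.sl_of_central (by decide) (by decide) φ hφ (le_of_eq hφk) (by rw [hφk, hZ])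

theorem main {G : Type u} [Group G] [Finite G] (hC : AllConj G) :
    (IsCyclic (G ⧸ Cfsg.oddCore G) ∧ IsPGroup 2 (G ⧸ Cfsg.oddCore G)) ∨
    Nonempty (G ⧸ Cfsg.oddCore G ≃* Cfsg.affineGroup (GaloisField 2 3)) ∨
    Nonempty (G ⧸ Cfsg.oddCore G ≃* Cfsg.semiaffineGroup (GaloisField 2 3)) ∨
    Nonempty (G ⧸ Cfsg.oddCore G ≃* Cfsg.semiaffineGroup (GaloisField 2 5)) ∨
    Nonempty (G ⧸ Cfsg.oddCore G ≃* Matrix.ProjectiveSpecialLinearGroup (Fin 2) (GaloisField 2 3)) ∨
    Nonempty (G ⧸ Cfsg.oddCore G ≃* MulAut (Matrix.ProjectiveSpecialLinearGroup (Fin 2) (GaloisField 2 5))) ∨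
    Nonempty (G ⧸ Cfsg.oddCore G ≃* alternatingGroup (Fin 4)) ∨
    Nonempty (G ⧸ Cfsg.oddCore G ≃* alternatingGroup (Fin 5)) ∨
    Nonempty (G ⧸ Cfsg.oddCore G ≃* Matrix.SpecialLinearGroup (Fin 2) (ZMod 3)) ∨
    Nonempty (G ⧸ Cfsg.oddCore G ≃* Matrix.SpecialLinearGroup (Fin 2) (ZMod 5)) := by
  haveI : Fact (Nat.Prime 2) := ⟨Nat.prime_two⟩
  haveI : (Cfsg.oddCore G).Normal := by
    haveI : (Cfsg.oddCore G).Characteristic := Fusion.pPrimeCore_characteristic
    infer_instance
  set Q := G ⧸ Cfsg.oddCore G with hQ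
  have hO : Cfsg.oddCore Q = ⊥ := Fusion.pPrimeCore_quotient_eq_bot
  have hCQ : AllConj Q := hC.quotient _
  obtain ⟨P⟩ : Nonempty (Sylow 2 Q) := inferInstance
  rcases S4020.result hCQ.prime P with hcy | hel | ⟨⟨e⟩⟩
  · exact Or.inl (cyclic_case hO P hcy)
  · obtain ⟨n, hn⟩ := IsPGroup.iff_card.1 P.2
    rcases (show n ≤ 1 ∨ n = 2 ∨ 3 ≤ n by omega) with h | rfl | h3
    · refine Or.inl (cyclic_case hO P ?_)
      rcases (show n = 0 ∨ n = 1 by omega) with rfl | rfl
      · haveI : Subsingleton (P : Subgroup Q) := (Nat.card_eq_one_iff_unique.1 (by simpa using hn)).1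
        infer_instance
      · exact isCyclic_of_prime_card (p := 2) (by simpa using hn)
    · rcases four_case hCQ hO P hel hn with h | h
      · exact Or.inr (Or.inr (Or.inr (Or.inr (Or.inr (Or.inr (Or.inl h))))))
      · exact Or.inr (Or.inr (Or.inr (Or.inr (Or.inr (Or.inr (Or.inr (Or.inl h)))))))
    · by_cases hs : Group.IsSolvable Q
      · rcases solvable_large hCQ hO P hel hs h3 hn with h | h | h
        · exact Or.inr (Or.inl h)
        · exact Or.inr (Or.inr (Or.inl h))
        · exact Or.inr (Or.inr (Or.inr (Or.inl h)))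
      · rcases nonsolvable hCQ hO P hel hs (by omega) hn with ⟨h, -⟩ | ⟨-, h | h⟩
        · omega
        · exact Or.inr (Or.inr (Or.inr (Or.inr (Or.inl h))))
        · exact Or.inr (Or.inr (Or.inr (Or.inr (Or.inr (Or.inl h)))))
  · rcases quaternion_case hCQ hO P e with h | h
    · exact Or.inr (Or.inr (Or.inr (Or.inr (Or.inr (Or.inr (Or.inr (Or.inr (Or.inl h))))))))
    · exact Or.inr (Or.inr (Or.inr (Or.inr (Or.inr (Or.inr (Or.inr (Or.inr (Or.inr h))))))))

end Cfsg.Agent.Solv.EqualOrder
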